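import Cfsg.Agent.Lib.Helper5.Frob.Norm
import Cfsg.Agent.Lib.Helper5.Chev.HCardAll
import Mathlib

/-!
# The fixed elements of `H` for the types `G₂`, `F₄`, `E₈` (helper5)

For these types `(Fˣ)^l → H`, `c ↦ ∏ h_{p_i}(c_i)` is injective, so an element of `H` fixed by the
entrywise action of a field endomorphism has fixed parameters.
-/

set_option autoImplicit false

namespace Cfsg.Agent.Lib.Helper5.Frob

open Cfsg.Lie Cfsg.Agent.Lib.Helper5.Chev
open scoped Matrix

section hfix

variable {F : Type*} [Field F] {D : ChevalleyDatum}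

theorem wordU_mem_fixGroup (φ : F →+* F) (hadd : AllAdd F D) (w : List (ℕ × F))
    (hw : ∀ p ∈ w, φ p.2 = p.2) : hadd.wordU w ∈ fixGroup D φ := by
  unfold AllAdd.wordU
  apply Subgroup.list_prod_mem
  intro g hg
  rw [List.mem_map] at hg
  obtain ⟨p, hp, rfl⟩ := hg
  exact xU_mem_fixGroup φ hadd p.1 p.2 (hw p hp)

theorem sig_diagU (φ : F →+* F) (y : Fin D.nroots → Fˣ) :
    sig φ (diagU y) = diagU (fun v => Units.map (φ : F →* F) (y v)) := by
  apply Units.ext
  rw [sig_val, diagU_val, diagU_val, Matrix.diagonal_map (map_zero φ)]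
  congr 1
  funext x
  rcases x with j | v
  · simp
  · simp

theorem map_zact (φ : F →+* F) (c : Fin D.rank → Fˣ) :
    (fun v => Units.map (φ : F →* F) (zact (cartanM D) c v))
      = zact (cartanM D) (fun i => Units.map (φ : F →* F) (c i)) := by
  funext v
  rw [zact_apply, zact_apply, map_prod]
  apply Finset.prod_congr rfl
  intro i _
  rw [map_zpow]

variable [Fintype F]

/-- for the types with unimodular Cartan matrix the parametrisation of `H` is injective -/
theorem zact_injective (hD3 : D ∈ [chevG2, chevF4, chevE8]) :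
    Function.Injective (zact (G := Fˣ) (cartanM D)) := by
  classical
  have hD : D ∈ [chevG2, chevB2, chevD4, chevF4, chevE6, chevE7, chevE8] := by
    simp only [List.mem_cons, List.not_mem_nil, or_false] at hD3 ⊢
    rcases hD3 with h | h | h <;> simp [h]
  have hcardH : Nat.card (D.diagonalSubgroup F) = (Fintype.card F - 1) ^ D.rank := by
    simp only [List.mem_cons, List.not_mem_nil, or_false] at hD3
    rcases hD3 with rfl | rfl | rfl
    · exact card_diagonal_G2
    · exact card_diagonal_F4
    · exact card_diagonal_E8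
  have hrange : Nat.card (zact (G := Fˣ) (cartanM D)).range = (Fintype.card F - 1) ^ D.rank := by
    rw [← card_diagonal_eq hD, hcardH]
  have hdom : Nat.card (Fin D.rank → Fˣ) = (Fintype.card F - 1) ^ D.rank := by
    rw [Nat.card_fun, Nat.card_eq_fintype_card, Fintype.card_units, Nat.card_eq_fintype_card,
      Fintype.card_fin]
  have hbij : Function.Bijective (zact (G := Fˣ) (cartanM D)).rangeRestrict := by
    rw [Nat.bijective_iff_surjective_and_card]
    exact ⟨MonoidHom.rangeRestrict_surjective _, by rw [hdom, hrange]⟩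
  intro a b hab
  apply hbij.1
  exact Subtype.ext hab

/-- a fixed element of `H` lies in the fixed group -/
theorem diag_fixed_mem (hD3 : D ∈ [chevG2, chevF4, chevE8]) (φ : F →+* F) (h : GL D.Idx F)
    (hh : h ∈ D.diagonalSubgroup F) (hfix : sig φ h = h) : h ∈ fixGroup D φ := by
  have hD : D ∈ [chevG2, chevB2, chevD4, chevF4, chevE6, chevE7, chevE8] := by
    simp only [List.mem_cons, List.not_mem_nil, or_false] at hD3 ⊢
    rcases hD3 with h | h | h <;> simp [h]
  have hadd := allAdd_all (F := F) D hD
  have hmem : h ∈ (D.diagonalSubgroup F : Set (GL D.Idx F)) := hh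
  rw [diagonal_eq_image hD] at hmem
  obtain ⟨y, ⟨c, rfl⟩, rfl⟩ := hmem
  rw [sig_diagU, map_zact] at hfix
  have hc := zact_injective hD3 (diagU_injective hfix)
  have e : diagU (zact (cartanM D) c) = hadd.wordU ((List.range D.rank).flatMap fun i =>
      D.hWord (D.simple i) (extU c i : F)) := by
    apply Units.ext
    rw [diagU_zact, hadd.wordU_val, wordMat_flatMap,
      prod_hMat_eq hD _ (fun i hi => List.mem_range.1 hi) _ (fun i _ => Units.ne_zero _)]
  rw [e]
  apply wordU_mem_fixGroup φ hadd
  intro p hp
  rw [List.mem_flatMap] at hp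
  obtain ⟨i, hi, hp⟩ := hp
  rw [List.mem_range] at hi
  have hci : φ (extU c i : F) = (extU c i : F) := by
    unfold extU
    rw [dif_pos hi]
    have := congrFun hc ⟨i, hi⟩
    exact congrArg Units.val this
  unfold ChevalleyDatum.hWord ChevalleyDatum.nWord at hp
  simp only [List.cons_append, List.nil_append, List.mem_cons, List.not_mem_nil, or_false] at hp
  rcases hp with rfl | rfl | rfl | rfl | rfl | rfl
  · exact hci
  · show φ (-(extU c i : F)⁻¹) = _
    rw [map_neg, map_inv₀, hci]
  · exact hci
  · show φ (-1) = -1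
    rw [map_neg, map_one]
  · show φ (-(-1 : F)⁻¹) = _
    rw [map_neg, map_inv₀, map_neg, map_one]
  · show φ (-1) = -1
    rw [map_neg, map_one]

end hfix

end Cfsg.Agent.Lib.Helper5.Frob
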