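import Cfsg.Agent.Lib.Helper5.Frob.Twist
import Mathlib

/-!
# The centraliser of the root elements with parameters `±1` is trivial (helper5)
-/

set_option autoImplicit false

namespace Cfsg.Agent.Lib.Helper5.Frob

open Cfsg.Lie Cfsg.Agent.Lib.Helper5.Chev
open scoped Matrix

section coord

variable {F : Type*} [Field F] {T : FD} {D : ChevalleyDatum}

/-- the entry in the row of `h_i` and the column of `e_{-p_i}` -/
def coord (D : ChevalleyDatum) (i : ℕ) (hi : i < D.rank) (hn : D.neg (D.simple i) < D.nroots)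
    (g : GL D.Idx F) : F :=
  (g : Matrix D.Idx D.Idx F) (Sum.inl ⟨i, hi⟩) (Sum.inr ⟨D.neg (D.simple i), hn⟩)

theorem coord_one (i : ℕ) (hi : i < D.rank) (hn : D.neg (D.simple i) < D.nroots) :
    coord D i hi hn (1 : GL D.Idx F) = 0 := by
  unfold coord
  rw [Units.val_one, Matrix.one_apply_ne (by simp)]

/-- additivity on the unitriangular group of a grading with `-p_i` of level `-1` -/
theorem coord_mul (b : D.Idx → ℤ) (i : ℕ) (hi : i < D.rank) (hn : D.neg (D.simple i) < D.nroots)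
    (hb1 : b (Sum.inl ⟨i, hi⟩) = 0) (hb2 : b (Sum.inr ⟨D.neg (D.simple i), hn⟩) = -1)
    (A B : GL D.Idx F) (hA : A ∈ UG b 1) (hB : B ∈ UG b 1) :
    coord D i hi hn (A * B) = coord D i hi hn A + coord D i hi hn B := by
  unfold coord
  have e : (A : Matrix D.Idx D.Idx F) * (B : Matrix D.Idx D.Idx F)
      = ((A : Matrix D.Idx D.Idx F) - 1) * ((B : Matrix D.Idx D.Idx F) - 1)
        + ((A : Matrix D.Idx D.Idx F) - 1) + ((B : Matrix D.Idx D.Idx F) - 1) + 1 := by
    noncomm_ring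
  have h0 : (((A : Matrix D.Idx D.Idx F) - 1) * ((B : Matrix D.Idx D.Idx F) - 1))
      (Sum.inl ⟨i, hi⟩) (Sum.inr ⟨D.neg (D.simple i), hn⟩) = 0 := by
    by_contra hne
    have := (hA.1.mul hB.1) _ _ hne
    rw [hb1, hb2] at this
    norm_num at this
  rw [Units.val_mul, e]
  simp only [Matrix.add_apply, Matrix.sub_apply]
  rw [h0, Matrix.one_apply_ne (by simp)]
  ring

theorem coord_conj (b : D.Idx → ℤ) (i : ℕ) (hi : i < D.rank) (hn : D.neg (D.simple i) < D.nroots)
    (hb1 : b (Sum.inl ⟨i, hi⟩) = 0) (hb2 : b (Sum.inr ⟨D.neg (D.simple i), hn⟩) = -1)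
    (A B : GL D.Idx F) (hA : A ∈ UG b 1) (hB : B ∈ UG b 1) :
    coord D i hi hn (A⁻¹ * B * A) = coord D i hi hn B := by
  have hAi : A⁻¹ ∈ UG b 1 := Subgroup.inv_mem _ hA
  have h1 := coord_mul b i hi hn hb1 hb2 A⁻¹ A hAi hA
  rw [inv_mul_cancel, coord_one] at h1
  rw [coord_mul b i hi hn hb1 hb2 _ A (Subgroup.mul_mem _ hAi hB) hA,
    coord_mul b i hi hn hb1 hb2 _ B hAi hB]
  linear_combination -h1

theorem coord_xU (hD : D ∈ [chevG2, chevB2, chevD4, chevF4, chevE6, chevE7, chevE8])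
    (hadd : AllAdd F D) (i : ℕ) (hi : i < D.rank) (hn : D.neg (D.simple i) < D.nroots) (t : F) :
    coord D i hi hn (hadd.xU (D.simple i) t) = t := by
  have hs := (simple_lt_all D hD i hi).1
  unfold coord
  rw [hadd.xU_val, x_eq_xMat _ hs, xMat_lr]
  have hnegI : D.negIdx.getD (D.simple i) 0 = D.neg (D.simple i) := rfl
  rw [if_pos ⟨hnegI.symm, fun h => neg_simple_ne_all D hD i hi (congrArg Fin.val h)⟩]
  have := coroot_simple_all D hD i hi i hi
  rw [if_pos rfl] at this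
  simp only
  rw [this]
  simp

/-- `U` is unitriangular for the grading by the height -/
theorem pos_le_UG0 (hD : D ∈ [chevG2, chevB2, chevD4, chevF4, chevE6, chevE7, chevE8])
    (hA : T.Agrees D) (hadd : AllAdd F D) (mT : BT (List ℤ))
    (hrc : ∀ r < D.nroots, RootCoordOK T D mT r)
    (hpos : ∀ r < D.nroots, (D.IsPosRoot r ↔ D.nroots / 2 ≤ r)) :
    D.posUnipotent F ≤ UG (bOf D (ht0 D mT)) 1 := by
  unfold ChevalleyDatum.posUnipotent
  rw [Subgroup.closure_le]
  rintro g ⟨r, t, hr, hg⟩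
  have e : g = hadd.xU r t := Units.ext hg
  subst e
  exact xU_mem_UG_of_level hA hadd (isLevel_ht0 hA mT hrc) r hr.1
    (ht0_pos hD hA mT hrc r hr.1 ((hpos r hr.1).1 hr)) t

end coord

section cent

variable {F : Type*} [Field F] {D : ChevalleyDatum}

theorem wW_reverse (Bs L : List ℕ) (s : ℕ) : wW Bs L.reverse s = wW' Bs L s := by
  induction L generalizing s with
  | nil => rfl
  | cons i L ih =>
    rw [List.reverse_cons, wW_concat, ih]
    rfl

/-- an element of the group commuting with the `x_{p_i}(1)` lies in `B` -/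
theorem mem_borel_of_comm (hD : D ∈ [chevG2, chevB2, chevD4, chevF4, chevE6, chevE7, chevE8])
    (g : GL D.Idx F) (hg : g ∈ D.group F)
    (hc : ∀ i < D.rank, g * (allAdd_all D hD).xU (D.simple i) 1
      = (allAdd_all D hD).xU (D.simple i) 1 * g) :
    g ∈ D.borelSubgroup F := by
  have hadd := allAdd_all (F := F) D hD
  have hH := hform_all' (F := F) D hD
  obtain ⟨T, Bs, mLL, mT, gH, baseH, fuel, hA, hB, hr, hbase, hcox, hrc, hpos, hone, -⟩ :=
    frob_known D hD
  obtain ⟨h1, h2⟩ := cox_of_check T Bs mLL hcox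
  have hHU := (borel_semidirect_all (F := F) D hD).1
  have hHN : D.diagonalSubgroup F ≤ D.monomialSubgroup F := le_sup_left
  have hUB : D.posUnipotent F ≤ D.borelSubgroup F := le_sup_left
  have hHB : D.diagonalSubgroup F ≤ D.borelSubgroup F := le_sup_right
  obtain ⟨b, hb, n, hn, u, hu, e⟩ := bruhat_exists_all D hD g hg
  unfold ChevalleyDatum.borelSubgroup at hb
  rw [← SetLike.mem_coe, Subgroup.coe_mul_of_right_le_normalizer_left _ _ hHU, Set.mem_mul] at hb
  obtain ⟨u1, hu1, k, hk, rfl⟩ := hb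
  have hkn : k * n ∈ D.monomialSubgroup F := Subgroup.mul_mem _ (hHN hk) hn
  obtain ⟨L, hL, h0, hh0, en⟩ := monomial_le_NWH hA hadd Bs hB hH gH baseH fuel hr hbase hkn
  have huU : u ∈ D.posUnipotent F := uneg_le_pos D n hu
  have eg : g = u1 * (nWordU hA hadd L * h0) * u := by rw [e, ← en]; group
  have hU0 := pos_le_UG0 (F := F) hD hA hadd mT hrc hpos
  have hL' : ∀ i ∈ L.reverse, i < D.rank := fun i hi => hL i (List.mem_reverse.1 hi)
  have hnd : ∀ i < D.rank, D.nroots / 2 ≤ wW Bs L.reverse (D.simple i) := by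
    intro i hi
    rw [wW_reverse]
    obtain ⟨hs, hns⟩ := simple_lt_all D hD i hi
    have hx : hadd.xU (D.simple i) 1 ∈ D.posUnipotent F :=
      Subgroup.subset_closure ⟨_, 1, pos_simple_all D hD i hi, rfl⟩
    have hcomm : g * hadd.xU (D.simple i) 1 = hadd.xU (D.simple i) 1 * g := hc i hi
    have h3 : g * hadd.xU (D.simple i) 1 * g⁻¹ = hadd.xU (D.simple i) 1 := by
      rw [hcomm]; group
    have ey : nWordU hA hadd L * h0 * (u * hadd.xU (D.simple i) 1 * u⁻¹) *
        (nWordU hA hadd L * h0)⁻¹ = u1⁻¹ * hadd.xU (D.simple i) 1 * u1 := by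
      calc nWordU hA hadd L * h0 * (u * hadd.xU (D.simple i) 1 * u⁻¹) *
            (nWordU hA hadd L * h0)⁻¹
          = u1⁻¹ * ((u1 * (nWordU hA hadd L * h0) * u) * hadd.xU (D.simple i) 1 *
              (u1 * (nWordU hA hadd L * h0) * u)⁻¹) * u1 := by group
        _ = _ := by rw [← eg, h3]
    have hy : u1⁻¹ * hadd.xU (D.simple i) 1 * u1 ∈
        (D.posUnipotent F).map (MulAut.conj (nWordU hA hadd L * h0)).toMonoidHom := by
      rw [Subgroup.mem_map]
      refine ⟨u * hadd.xU (D.simple i) 1 * u⁻¹,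
        Subgroup.mul_mem _ (Subgroup.mul_mem _ huU hx) (Subgroup.inv_mem _ huU), ?_⟩
      rw [← ey]
      rfl
    have hb1 : bOf D (ht0 D mT) (Sum.inl ⟨i, hi⟩) = 0 := rfl
    have hb2 : bOf D (ht0 D mT) (Sum.inr ⟨D.neg (D.simple i), hns⟩) = -1 := by
      show ht0 D mT (D.neg (D.simple i)) = -1
      rw [FD.neg_eq' hA _ hs, (isLevel_ht0 hA mT hrc).neg _ hs, ht0_simple hD hA mT hrc hone i hi]
    have hcoord : coord D i hi hns (u1⁻¹ * hadd.xU (D.simple i) 1 * u1) = 1 := by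
      rw [coord_conj (bOf D (ht0 D mT)) i hi hns hb1 hb2 u1 _ (hU0 hu1) (hU0 hx),
        coord_xU hD hadd i hi hns]
    apply pos_of_entry_ne_zero hD hA hadd mT hrc hpos Bs hB L hL h0 hh0 _ hy i hi hns
    have : (u1⁻¹ * hadd.xU (D.simple i) 1 * u1 : GL D.Idx F).val (Sum.inl ⟨i, hi⟩)
        (Sum.inr ⟨D.neg (D.simple i), hns⟩) = 1 := hcoord
    rw [this]
    exact one_ne_zero
  have hrev := nWordU_mem_diagonal hD hA hadd Bs mLL hB h1 h2 L.reverse hL' hnd
  obtain ⟨h', hh', einv⟩ := nWordU_inv hA hadd Bs hB hH L hL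
  have hnW : nWordU hA hadd L ∈ D.diagonalSubgroup F := by
    rw [← Subgroup.inv_mem_iff, einv]
    exact Subgroup.mul_mem _ hrev hh'
  rw [eg]
  exact Subgroup.mul_mem _ (Subgroup.mul_mem _ (hUB hu1)
    (hHB (Subgroup.mul_mem _ hnW hh0))) (hUB huU)

end cent

end Cfsg.Agent.Lib.Helper5.Frob
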