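import Cfsg.Agent.Lib.Helper5.Frob.Cent
import Mathlib

/-!
# The centraliser of the root elements with parameters `±1` is trivial, part 2 (helper5)
-/

set_option autoImplicit false

namespace Cfsg.Agent.Lib.Helper5.Frob

open Cfsg.Lie Cfsg.Agent.Lib.Helper5.Chev
open scoped Matrix

section cent

variable {F : Type*} [Field F] {T : FD} {D : ChevalleyDatum}

/-- the elements `n_i` lie in every subgroup containing the root elements with parameters `±1` -/
theorem nUi_mem_of (hA : T.Agrees D) (hadd : AllAdd F D) (M : Subgroup (GL D.Idx F))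
    (hM : ∀ s : ℕ, hadd.xU s 1 ∈ M ∧ hadd.xU s (-1) ∈ M) (i : ℕ) : nUi hA hadd i ∈ M := by
  by_cases hi : i < D.rank
  · have e : nUi hA hadd i = hadd.wordU (D.nWord (D.simple i) (1 : F)) := by
      apply Units.ext
      rw [nUi_val hA hadd hi, hadd.wordU_val]
      rfl
    rw [e]
    unfold AllAdd.wordU ChevalleyDatum.nWord
    simp only [List.map_cons, List.map_nil, List.prod_cons, List.prod_nil, mul_one, inv_one]
    exact Subgroup.mul_mem _ (hM _).1 (Subgroup.mul_mem _ (hM _).2 (hM _).1)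
  · rw [nUi, dif_neg hi]
    exact Subgroup.one_mem _

theorem nWordU_mem_of (hA : T.Agrees D) (hadd : AllAdd F D) (M : Subgroup (GL D.Idx F))
    (hM : ∀ s : ℕ, hadd.xU s 1 ∈ M ∧ hadd.xU s (-1) ∈ M) (L : List ℕ) :
    nWordU hA hadd L ∈ M := by
  unfold nWordU
  apply Subgroup.list_prod_mem
  intro g hg
  rw [List.mem_map] at hg
  obtain ⟨i, -, rfl⟩ := hg
  exact nUi_mem_of hA hadd M hM i

/-- an element of the group commuting with a subgroup containing the root elements with parameters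
`±1` is trivial -/
theorem cent_eq_one (hD : D ∈ [chevG2, chevB2, chevD4, chevF4, chevE6, chevE7, chevE8])
    (M : Subgroup (GL D.Idx F))
    (hM : ∀ s : ℕ, (allAdd_all D hD).xU s 1 ∈ M ∧ (allAdd_all D hD).xU s (-1) ∈ M)
    (g : GL D.Idx F) (hg : g ∈ D.group F) (hc : ∀ x ∈ M, g * x = x * g) : g = 1 := by
  have hadd := allAdd_all (F := F) D hD
  have hH := hform_all' (F := F) D hD
  obtain ⟨T, Bs, mLL, mT, gH, baseH, fuel, hA, hB, hr, hbase, hcox, hrc, hpos, hone, L0, hL0, hw0⟩ :=
    frob_known D hD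
  have hHU := (borel_semidirect_all (F := F) D hD).1
  have hUB : D.posUnipotent F ≤ D.borelSubgroup F := le_sup_left
  have hHB : D.diagonalSubgroup F ≤ D.borelSubgroup F := le_sup_right
  have hgB : g ∈ D.borelSubgroup F :=
    mem_borel_of_comm hD g hg (fun i _ => hc _ (hM _).1)
  -- the longest element
  have hn0M : nWordU hA hadd L0 ∈ M := nWordU_mem_of hA hadd M hM L0
  have hn0G : nWordU hA hadd L0 ∈ D.group F := hadd.monomial_le (nWordU_mem hA hadd L0)
  have hg'c : ∀ x ∈ M, ((nWordU hA hadd L0)⁻¹ * g * nWordU hA hadd L0) * x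
      = x * ((nWordU hA hadd L0)⁻¹ * g * nWordU hA hadd L0) := by
    intro x hx
    have hx' : nWordU hA hadd L0 * x * (nWordU hA hadd L0)⁻¹ ∈ M :=
      Subgroup.mul_mem _ (Subgroup.mul_mem _ hn0M hx) (Subgroup.inv_mem _ hn0M)
    have := hc _ hx'
    calc (nWordU hA hadd L0)⁻¹ * g * nWordU hA hadd L0 * x
        = (nWordU hA hadd L0)⁻¹ * (g * (nWordU hA hadd L0 * x * (nWordU hA hadd L0)⁻¹)) *
            nWordU hA hadd L0 := by group
      _ = (nWordU hA hadd L0)⁻¹ * ((nWordU hA hadd L0 * x * (nWordU hA hadd L0)⁻¹) * g) *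
            nWordU hA hadd L0 := by rw [this]
      _ = _ := by group
  have hg'B : (nWordU hA hadd L0)⁻¹ * g * nWordU hA hadd L0 ∈ D.borelSubgroup F :=
    mem_borel_of_comm hD _
      (Subgroup.mul_mem _ (Subgroup.mul_mem _ (Subgroup.inv_mem _ hn0G) hg) hn0G)
      (fun i _ => hg'c _ (hM _).1)
  -- `g` lies in `V H`
  have hconjU : ∀ z ∈ D.posUnipotent F,
      nWordU hA hadd L0 * z * (nWordU hA hadd L0)⁻¹ ∈ D.negUnipotent F := by
    have : D.posUnipotent F ≤
        (D.negUnipotent F).comap (MulAut.conj (nWordU hA hadd L0)).toMonoidHom := by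
      unfold ChevalleyDatum.posUnipotent
      rw [Subgroup.closure_le]
      rintro z ⟨r, t, hr', hz⟩
      have hz' : z = hadd.xU r t := Units.ext hz
      subst hz'
      rw [SetLike.mem_coe, Subgroup.mem_comap]
      show nWordU hA hadd L0 * hadd.xU r t * (nWordU hA hadd L0)⁻¹ ∈ D.negUnipotent F
      obtain ⟨-, t', h2⟩ := conj_word hA hadd Bs hB L0 hL0 r hr'.1 t
      rw [h2]
      apply Subgroup.subset_closure
      exact ⟨_, t', (w0b_spec D Bs L0 hw0 r hr'.1).1 hr', rfl⟩
    intro z hz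
    exact this hz
  have hgVH : g ∈ D.negUnipotent F ⊔ D.diagonalSubgroup F := by
    unfold ChevalleyDatum.borelSubgroup at hg'B
    rw [← SetLike.mem_coe, Subgroup.coe_mul_of_right_le_normalizer_left _ _ hHU, Set.mem_mul]
      at hg'B
    obtain ⟨u', hu', k', hk', e'⟩ := hg'B
    have hnorm := nWordU_mem_normalizer hA hadd Bs hB hH L0 hL0
    have e2 : g = (nWordU hA hadd L0 * u' * (nWordU hA hadd L0)⁻¹) *
        (nWordU hA hadd L0 * k' * (nWordU hA hadd L0)⁻¹) := by
      calc g = nWordU hA hadd L0 * ((nWordU hA hadd L0)⁻¹ * g * nWordU hA hadd L0) *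
            (nWordU hA hadd L0)⁻¹ := by group
        _ = nWordU hA hadd L0 * (u' * k') * (nWordU hA hadd L0)⁻¹ := by rw [← e']
        _ = _ := by group
    rw [e2]
    exact Subgroup.mul_mem_sup (hconjU u' hu') ((Subgroup.mem_normalizer_iff.1 hnorm k').1 hk')
  have hgH : g ∈ D.diagonalSubgroup F := by
    rw [← (borel_inf_neg_all (F := F) D hD).2]
    exact ⟨hgB, hgVH⟩
  -- the character is trivial
  obtain ⟨χ, hχ1, hχ2⟩ := diag_conj_char D hD g hgH
  have hchi : ∀ s < D.nroots, (χ s : F) = 1 := by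
    intro s hs
    have h1 := hχ2 s hs 1
    have h2 : g * hadd.xU s 1 * g⁻¹ = hadd.xU s 1 := by
      rw [hc _ (hM s).1]; group
    rw [h2, mul_one] at h1
    exact (xU_injective hadd s (xInj_all D hD s hs) _ _ h1).symm
  apply Units.ext
  rw [hχ1, Units.val_one]
  unfold ChevalleyDatum.charDiag
  rw [← Matrix.diagonal_one]
  congr 1
  funext a
  rcases a with a | a
  · rfl
  · exact hchi a.val a.2

end cent

end Cfsg.Agent.Lib.Helper5.Frob
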