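import Cfsg.Agent.Lib.Helper5.Frob.HFix
import Mathlib

/-!
# The fixed points of a field automorphism of prime order, types `G₂`, `F₄`, `E₈` (helper5)
-/

set_option autoImplicit false

namespace Cfsg.Agent.Lib.Helper5.Frob

open Cfsg.Lie Cfsg.Agent.Lib.Helper5.Chev
open scoped Matrix

section fieldaut

variable {F : Type*} [Field F] {D : ChevalleyDatum}

/-- a field automorphism of the group is the restriction of the entrywise action -/
theorem fieldAut_eq_sig (hD : D ∈ [chevG2, chevB2, chevD4, chevF4, chevE6, chevE7, chevE8])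
    (φ : ↥(D.group F) ≃* ↥(D.group F)) (σ : F ≃+* F)
    (hσ : ∀ (g : ↥(D.group F)) (r : ℕ) (t : F), r < D.nroots →
      ((g : GL D.Idx F) : Matrix D.Idx D.Idx F) = D.x F r t →
      ((φ g : GL D.Idx F) : Matrix D.Idx D.Idx F) = D.x F r (σ t)) (g : ↥(D.group F)) :
    ((φ g : ↥(D.group F)) : GL D.Idx F) = sig (σ : F →+* F) (g : GL D.Idx F) := by
  have hadd := allAdd_all (F := F) D hD
  have key : (D.group F).subtype.comp φ.toMonoidHom
      = (sig (σ : F →+* F)).comp (D.group F).subtype := by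
    apply MonoidHom.eq_of_eqOn_dense
      (s := ((↑) : ↥(D.group F) → GL D.Idx F) ⁻¹'
        {g | ∃ (r : Fin D.nroots) (t : F), (g : Matrix D.Idx D.Idx F) = D.xMat F r t})
    · exact Subgroup.closure_closure_coe_preimage
    · rintro g ⟨r, t, hg⟩
      have hg' : ((g : GL D.Idx F) : Matrix D.Idx D.Idx F) = D.x F r.val t := by
        rw [hg, x_eq_xMat r.val r.2]
      have h1 := hσ g r.val t r.2 hg'
      have e1 : (g : GL D.Idx F) = hadd.xU r.val t := Units.ext hg'
      show ((φ g : ↥(D.group F)) : GL D.Idx F) = sig (σ : F →+* F) (g : GL D.Idx F)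
      rw [e1, sig_xU]
      exact Units.ext h1
  exact DFunLike.congr_fun key g

theorem sig_comp (σ τ : F →+* F) (g : GL D.Idx F) : sig (σ.comp τ) g = sig σ (sig τ g) := by
  apply Units.ext
  rw [sig_val, sig_val, sig_val, Matrix.map_map]
  rfl

theorem sig_id (g : GL D.Idx F) : sig (RingHom.id F) g = g := by
  apply Units.ext
  rw [sig_val]
  exact Matrix.map_id _

/-- the powers of a field automorphism -/
theorem fieldAut_pow (hD : D ∈ [chevG2, chevB2, chevD4, chevF4, chevE6, chevE7, chevE8])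
    (φ : MulAut ↥(D.group F)) (σ : F ≃+* F)
    (hσ : ∀ (g : ↥(D.group F)) (r : ℕ) (t : F), r < D.nroots →
      ((g : GL D.Idx F) : Matrix D.Idx D.Idx F) = D.x F r t →
      ((φ g : GL D.Idx F) : Matrix D.Idx D.Idx F) = D.x F r (σ t)) (k : ℕ) (g : ↥(D.group F)) :
    (((φ ^ k) g : ↥(D.group F)) : GL D.Idx F)
      = sig (((σ ^ k : F ≃+* F)) : F →+* F) (g : GL D.Idx F) := by
  induction k generalizing g with
  | zero =>
    rw [pow_zero, pow_zero]
    exact (sig_id _).symm
  | succ k ih =>
    rw [pow_succ', pow_succ']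
    show ((φ ((φ ^ k) g) : ↥(D.group F)) : GL D.Idx F) = _
    rw [fieldAut_eq_sig hD φ σ hσ, ih]
    exact (sig_comp _ _ _).symm

theorem nroots_pos (hD : D ∈ [chevG2, chevB2, chevD4, chevF4, chevE6, chevE7, chevE8]) :
    0 < D.nroots := by
  simp only [List.mem_cons, List.not_mem_nil, or_false] at hD
  rcases hD with rfl | rfl | rfl | rfl | rfl | rfl | rfl <;> decide

/-- the order of the field automorphism is the order of the automorphism of the field -/
theorem fieldAut_order (hD : D ∈ [chevG2, chevB2, chevD4, chevF4, chevE6, chevE7, chevE8])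
    (φ : MulAut ↥(D.group F)) (σ : F ≃+* F)
    (hσ : ∀ (g : ↥(D.group F)) (r : ℕ) (t : F), r < D.nroots →
      ((g : GL D.Idx F) : Matrix D.Idx D.Idx F) = D.x F r t →
      ((φ g : GL D.Idx F) : Matrix D.Idx D.Idx F) = D.x F r (σ t)) (r : ℕ) (hr : r.Prime)
    (ho : orderOf φ = r) : σ ^ r = 1 ∧ σ ≠ 1 := by
  have hadd := allAdd_all (F := F) D hD
  have hn := nroots_pos hD
  constructor
  · apply RingEquiv.ext
    intro t
    have h1 := fieldAut_pow hD φ σ hσ r ⟨hadd.xU 0 t, hadd.xU_mem_group 0 t⟩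
    rw [← ho, pow_orderOf_eq_one, ho] at h1
    have h2 : hadd.xU 0 t = hadd.xU 0 ((σ ^ r) t) := by
      have h3 := sig_xU (((σ ^ r : F ≃+* F)) : F →+* F) hadd 0 t
      exact h1.trans h3
    exact (xU_injective hadd 0 (xInj_all D hD 0 hn) _ _ h2).symm
  · intro h1
    have : φ = 1 := by
      apply MulEquiv.ext
      intro g
      apply Subtype.ext
      rw [fieldAut_eq_sig hD φ σ hσ, h1]
      exact sig_id _
    rw [this, orderOf_one] at ho
    exact hr.one_lt.ne ho

end fieldaut

end Cfsg.Agent.Lib.Helper5.Frob
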