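import Cfsg.Agent.Lib.Helper5.Frob.FieldAut
import Mathlib

/-!
# The fixed points of a field automorphism of prime order, part 2 (helper5)
-/

set_option autoImplicit false

namespace Cfsg.Agent.Lib.Helper5.Frob

open Cfsg.Lie Cfsg.Agent.Lib.Helper5.Chev
open scoped Matrix

section galois

variable {F : Type*} [Field F] [Fintype F]

/-- the fixed field of an automorphism of prime order `r` of a finite field, as the range of an
embedding of a field `F₀` with `|F| = |F₀|^r` -/
theorem exists_fixed_field (σ : F ≃+* F) (r : ℕ) (hr : r.Prime) (h1 : σ ^ r = 1) (h2 : σ ≠ 1) :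
    ∃ (F₀ : Type) (_ : Field F₀) (_ : Fintype F₀) (ι : F₀ →+* F),
      Fintype.card F = Fintype.card F₀ ^ r ∧ ∀ t : F, σ t = t ↔ t ∈ Set.range ι := by
  classical
  have : Fact r.Prime := ⟨hr⟩
  have : Finite (F ≃+* F) :=
    Finite.of_injective (fun e : F ≃+* F => (e : F → F)) DFunLike.coe_injective
  have : Fintype (Subgroup.zpowers σ) := Fintype.ofFinite _
  have : Fintype (FixedPoints.subfield (Subgroup.zpowers σ) F) := Fintype.ofFinite _
  have hmem : ∀ t : F, t ∈ FixedPoints.subfield (Subgroup.zpowers σ) F ↔ σ t = t := by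
    intro t
    constructor
    · intro h
      exact h ⟨σ, Subgroup.mem_zpowers σ⟩
    · intro h g
      have hle : Subgroup.zpowers σ ≤ MulAction.stabilizer (F ≃+* F) t := by
        rw [Subgroup.zpowers_le]
        exact h
      exact hle g.2
  have hrank : Module.finrank (FixedPoints.subfield (Subgroup.zpowers σ) F) F = r := by
    rw [FixedPoints.finrank_eq_card, ← Nat.card_eq_fintype_card, Nat.card_zpowers,
      orderOf_eq_prime h1 h2]
  have hcard : Fintype.card F
      = Fintype.card (FixedPoints.subfield (Subgroup.zpowers σ) F) ^ r := by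
    rw [← hrank]
    exact Module.card_eq_pow_finrank
  obtain ⟨p, hp⟩ := CharP.exists (FixedPoints.subfield (Subgroup.zpowers σ) F)
  obtain ⟨n, hpp, hn⟩ := FiniteField.card (FixedPoints.subfield (Subgroup.zpowers σ) F) p
  have : Fact p.Prime := ⟨hpp⟩
  have : Fintype (GaloisField p n) := Fintype.ofFinite _
  have hc : Fintype.card (FixedPoints.subfield (Subgroup.zpowers σ) F)
      = Fintype.card (GaloisField p n) := by
    rw [hn, ← Nat.card_eq_fintype_card, GaloisField.card p n n.ne_zero]
  refine ⟨GaloisField p n, inferInstance, inferInstance,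
    (FixedPoints.subfield (Subgroup.zpowers σ) F).subtype.comp
      (FiniteField.ringEquivOfCardEq hc).symm.toRingHom, ?_, ?_⟩
  · rw [hcard, hc]
  · intro t
    rw [← hmem]
    constructor
    · intro ht
      exact ⟨FiniteField.ringEquivOfCardEq hc ⟨t, ht⟩, by simp⟩
    · rintro ⟨x, rfl⟩
      exact ((FiniteField.ringEquivOfCardEq hc).symm x).2

end galois

section iso

variable {F₀ F : Type*} [Field F₀] [Field F] {D : ChevalleyDatum}

theorem mapGL_val (ι : F₀ →+* F) (g : GL D.Idx F₀) :
    ((Matrix.GeneralLinearGroup.map ι g : GL D.Idx F) : Matrix D.Idx D.Idx F)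
      = (g : Matrix D.Idx D.Idx F₀).map ι := by
  ext i j
  exact Matrix.GeneralLinearGroup.map_apply ι i j g

theorem mapGL_xU (ι : F₀ →+* F) (hadd₀ : AllAdd F₀ D) (hadd : AllAdd F D) (s : ℕ) (t : F₀) :
    Matrix.GeneralLinearGroup.map ι (hadd₀.xU s t) = hadd.xU s (ι t) := by
  apply Units.ext
  rw [mapGL_val, hadd₀.xU_val, x_map_hom, hadd.xU_val]

theorem mapGL_injective (ι : F₀ →+* F) :
    Function.Injective (Matrix.GeneralLinearGroup.map (n := D.Idx) ι) := by
  intro a b h
  apply Units.ext
  have := congrArg Units.val h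
  rw [mapGL_val, mapGL_val] at this
  exact Matrix.map_injective ι.injective this

/-- the image of the group over the small field is the fixed group -/
theorem map_group_eq (hD : D ∈ [chevG2, chevB2, chevD4, chevF4, chevE6, chevE7, chevE8])
    (ι : F₀ →+* F) (φ : F →+* F) (hrange : ∀ t : F, φ t = t ↔ t ∈ Set.range ι) :
    (D.group F₀).map (Matrix.GeneralLinearGroup.map ι) = fixGroup D φ := by
  have hadd₀ := allAdd_all (F := F₀) D hD
  have hadd := allAdd_all (F := F) D hD
  apply le_antisymm
  · rw [Subgroup.map_le_iff_le_comap]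
    unfold ChevalleyDatum.group
    rw [Subgroup.closure_le]
    rintro g ⟨r, t, hg⟩
    have e : g = hadd₀.xU r.val t := Units.ext (hg.trans (x_eq_xMat r.val r.2 t).symm)
    rw [SetLike.mem_coe, Subgroup.mem_comap, e, mapGL_xU ι hadd₀ hadd]
    exact xU_mem_fixGroup φ hadd _ _ ((hrange _).2 ⟨t, rfl⟩)
  · unfold fixGroup
    rw [Subgroup.closure_le]
    rintro g ⟨s, t, ht, hg⟩
    obtain ⟨t₀, rfl⟩ := (hrange t).1 ht
    have e : g = hadd.xU s (ι t₀) := Units.ext hg
    rw [SetLike.mem_coe, e, ← mapGL_xU ι hadd₀ hadd]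
    exact Subgroup.mem_map_of_mem _ (hadd₀.xU_mem_group s t₀)

end iso

end Cfsg.Agent.Lib.Helper5.Frob
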