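import Cfsg.Agent.Lib.Helper5.Frob.FieldAut2
import Mathlib

/-!
# The fixed points of a field automorphism of prime order, types `G₂`, `F₄`, `E₈`: statement
(helper5)
-/

set_option autoImplicit false

namespace Cfsg.Agent.Lib.Helper5.Frob

open Cfsg.Lie Cfsg.Agent.Lib.Helper5.Chev
open scoped Matrix

section main

variable {F : Type*} [Field F] [Fintype F] {D : ChevalleyDatum}

/-- for the types `G₂`, `F₄`, `E₈` the elements of the group fixed by the entrywise action of an
automorphism of the field are the elements of the fixed group -/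
theorem fixed_iff_mem (hD3 : D ∈ [chevG2, chevF4, chevE8]) (σ : F ≃+* F) (g : GL D.Idx F)
    (hg : g ∈ D.group F) : sig (σ : F →+* F) g = g ↔ g ∈ fixGroup D (σ : F →+* F) := by
  have hD : D ∈ [chevG2, chevB2, chevD4, chevF4, chevE6, chevE7, chevE8] := by
    simp only [List.mem_cons, List.not_mem_nil, or_false] at hD3 ⊢
    rcases hD3 with h | h | h <;> simp [h]
  have hadd := allAdd_all (F := F) D hD
  constructor
  · intro hfix
    obtain ⟨l₁, hl₁, h, hh, l₂, hl₂, hhfix, rfl⟩ :=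
      fixed_decomp (σ : F →+* F) hD σ.surjective g hg hfix
    exact Subgroup.mul_mem _ (Subgroup.mul_mem _ hl₁ (diag_fixed_mem hD3 _ h hh hhfix)) hl₂
  · exact sig_fixGroup _ hadd

theorem fixed_iso (hD3 : D ∈ [chevG2, chevF4, chevE8]) (φ : MulAut ↥(D.group F))
    (hφ : D.IsFieldAut φ) (r : ℕ) (hr : r.Prime) (ho : orderOf φ = r) :
    ∃ (F₀ : Type) (_ : Field F₀) (_ : Fintype F₀), Fintype.card F = Fintype.card F₀ ^ r ∧
      Nonempty (↥((MulEquiv.toMonoidHom φ).eqLocus (MonoidHom.id ↥(D.group F))) ≃*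
        ↥(D.group F₀)) := by
  have hD : D ∈ [chevG2, chevB2, chevD4, chevF4, chevE6, chevE7, chevE8] := by
    simp only [List.mem_cons, List.not_mem_nil, or_false] at hD3 ⊢
    rcases hD3 with h | h | h <;> simp [h]
  have hadd := allAdd_all (F := F) D hD
  obtain ⟨σ, hσ⟩ := hφ
  obtain ⟨h1, h2⟩ := fieldAut_order hD φ σ hσ r hr ho
  obtain ⟨F₀, i1, i2, ι, hcard, hrange⟩ := exists_fixed_field σ r hr h1 h2
  refine ⟨F₀, i1, i2, hcard, ?_⟩
  have himg := map_group_eq (D := D) hD ι (σ : F →+* F) hrange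
  -- the homomorphism into the fixed points
  have hmemG : ∀ g : ↥(D.group F₀),
      Matrix.GeneralLinearGroup.map ι (g : GL D.Idx F₀) ∈ D.group F := by
    intro g
    apply fixGroup_le_group (σ : F →+* F) hadd
    rw [← himg]
    exact Subgroup.mem_map_of_mem _ g.2
  let f₂ : ↥(D.group F₀) →* ↥(D.group F) :=
    ((Matrix.GeneralLinearGroup.map ι).comp (D.group F₀).subtype).codRestrict (D.group F) hmemG
  have hf₂ : ∀ g : ↥(D.group F₀), ((f₂ g : ↥(D.group F)) : GL D.Idx F)
      = Matrix.GeneralLinearGroup.map ι (g : GL D.Idx F₀) := fun g => rfl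
  have hmemE : ∀ g : ↥(D.group F₀),
      f₂ g ∈ (MulEquiv.toMonoidHom φ).eqLocus (MonoidHom.id ↥(D.group F)) := by
    intro g
    show φ (f₂ g) = f₂ g
    apply Subtype.ext
    rw [fieldAut_eq_sig hD φ σ hσ, hf₂]
    apply sig_fixGroup _ hadd
    rw [← himg]
    exact Subgroup.mem_map_of_mem _ g.2
  let f₃ : ↥(D.group F₀) →* ↥((MulEquiv.toMonoidHom φ).eqLocus (MonoidHom.id ↥(D.group F))) :=
    f₂.codRestrict _ hmemE
  have hinj : Function.Injective f₃ := by
    intro a b hab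
    have h3 : ((f₂ a : ↥(D.group F)) : GL D.Idx F) = ((f₂ b : ↥(D.group F)) : GL D.Idx F) :=
      congrArg (fun y : ↥((MulEquiv.toMonoidHom φ).eqLocus (MonoidHom.id ↥(D.group F))) =>
        ((y : ↥(D.group F)) : GL D.Idx F)) hab
    rw [hf₂, hf₂] at h3
    exact Subtype.ext (mapGL_injective ι h3)
  have hsurj : Function.Surjective f₃ := by
    intro y
    have hy : φ (y : ↥(D.group F)) = (y : ↥(D.group F)) := y.2
    have hy2 : sig (σ : F →+* F) ((y : ↥(D.group F)) : GL D.Idx F)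
        = ((y : ↥(D.group F)) : GL D.Idx F) := by
      rw [← fieldAut_eq_sig hD φ σ hσ, hy]
    have hy3 := (fixed_iff_mem hD3 σ _ (y : ↥(D.group F)).2).1 hy2
    rw [← himg, Subgroup.mem_map] at hy3
    obtain ⟨g₀, hg₀, e⟩ := hy3
    refine ⟨⟨g₀, hg₀⟩, ?_⟩
    apply Subtype.ext
    apply Subtype.ext
    exact e
  exact ⟨(MulEquiv.ofBijective f₃ ⟨hinj, hsurj⟩).symm⟩

end main

end Cfsg.Agent.Lib.Helper5.Frob
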