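import Cfsg.Agent.Lib.Helper5.Frob.Sigma
import Cfsg.Agent.Lib.Helper5.Chev.LeviAll
import Cfsg.Agent.Lib.Helper5.Chev.MonoB
import Cfsg.Agent.Lib.Helper5.Chev.BNAxiom
import Cfsg.Agent.Lib.Helper5.Chev.W0All
import Mathlib

/-!
# Gradings of the adjoint module twisted by an element of the Weyl group (helper5)

An additive level on the roots gives a grading of the adjoint module for which the root elements of
roots of positive level are unitriangular.  The levels are stable under the fundamental reflections.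
Consequence: if `y` and `n⁻¹ y n` both lie in `U` and the coordinate of `y` on the fundamental root
`p_i` is not zero, then `w⁻¹ p_i` is positive.
-/

set_option autoImplicit false
set_option maxRecDepth 100000

namespace Cfsg.Agent.Lib.Helper5.Frob

open Cfsg.Lie Cfsg.Agent.Lib.Helper5.Chev
open scoped Matrix

/-- the tables and their checks, type by type -/
theorem frob_known (D : ChevalleyDatum)
    (hD : D ∈ [chevG2, chevB2, chevD4, chevF4, chevE6, chevE7, chevE8]) :
    ∃ (T : FD) (Bs : List ℕ) (mLL : List (List ℕ)) (mT : BT (List ℤ)) (gH : ℕ) (baseH : List ℕ)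
      (fuel : ℕ),
      T.Agrees D ∧ (∀ i < D.rank, ReflChecks T D i (Bs.getD i 0)) ∧
      reachb T Bs gH baseH fuel = true ∧ (∀ s ∈ baseH, ∃ j < D.rank, s = D.simple j) ∧
      coxb T Bs mLL = true ∧ (∀ r < D.nroots, RootCoordOK T D mT r) ∧
      (∀ r < D.nroots, (D.IsPosRoot r ↔ D.nroots / 2 ≤ r)) ∧
      (∀ i < D.rank, mOf mT (D.simple i) i = 1) ∧
      ∃ L0 : List ℕ, (∀ i ∈ L0, i < D.rank) ∧ w0b D Bs L0 = true := by
  simp only [List.mem_cons, List.not_mem_nil, or_false] at hD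
  rcases hD with rfl | rfl | rfl | rfl | rfl | rfl | rfl
  · exact ⟨_, _, _, _, _, _, _, DataG2.agrees, HsG2.reflBs', HsG2.rbH, HsG2.base_simple, CxG2.cox,
      LvG2.rcOK, LvG2.posIff, by decide +kernel, w0G2, w0G2_lt, w0G2_check⟩
  · exact ⟨_, _, _, _, _, _, _, DataB2.agrees, HsB2.reflBs', HsB2.rbH, HsB2.base_simple, CxB2.cox,
      LvB2.rcOK, LvB2.posIff, by decide +kernel, w0B2, w0B2_lt, w0B2_check⟩
  · exact ⟨_, _, _, _, _, _, _, DataD4.agrees, HsD4.reflBs', HsD4.rbH, HsD4.base_simple, CxD4.cox,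
      LvD4.rcOK, LvD4.posIff, by decide +kernel, w0D4, w0D4_lt, w0D4_check⟩
  · exact ⟨_, _, _, _, _, _, _, DataF4.agrees, HsF4.reflBs', HsF4.rbH, HsF4.base_simple, CxF4.cox,
      LvF4.rcOK, LvF4.posIff, by decide +kernel, w0F4, w0F4_lt, w0F4_check⟩
  · exact ⟨_, _, _, _, _, _, _, DataE6.agrees, HsE6.reflBs', HsE6.rbH, HsE6.base_simple, CxE6.cox,
      LvE6.rcOK, LvE6.posIff, by decide +kernel, w0E6, w0E6_lt, w0E6_check⟩
  · exact ⟨_, _, _, _, _, _, _, DataE7.agrees, HsE7.reflBs', HsE7.rbH, HsE7.base_simple, CxE7.cox,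
      LvE7.rcOK, LvE7.posIff, by decide +kernel, w0E7, w0E7_lt, w0E7_check⟩
  · exact ⟨_, _, _, _, _, _, _, DataE8.agrees, HsE8.reflBs', HsE8.rbH, HsE8.base_simple, CxE8.cox,
      LvE8.rcOK, LvE8.posIff, by decide +kernel, w0E8, w0E8_lt, w0E8_check⟩

/-- an additive level on the roots -/
structure IsLevel (T : FD) (n : ℕ) (lam : ℕ → ℤ) : Prop where
  neg : ∀ r < n, lam (T.neg r) = - lam r
  chain : ∀ r < n, ∀ s < n, ∀ q ∈ T.ch r s,
    q.1 ≠ s ∧ ∃ k : ℕ, 1 ≤ k ∧ lam q.1 = lam s + k * lam r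

/-- the levels are stable under a monomial symmetry -/
theorem IsLevel.comp {T : FD} {n l i : ℕ} {a : ℕ → ℤ} {w : ℕ → ℕ} {η : ℕ → ℤ}
    (c : MonoCert T n l i a w η) {lam : ℕ → ℤ} (h : IsLevel T n lam) :
    IsLevel T n (fun s => lam (w s)) := by
  constructor
  · intro r hr
    show lam (w (T.neg r)) = - lam (w r)
    rw [← c.neg_w r hr]
    exact h.neg _ (c.w_lt r hr)
  · intro r hr s hs q hq
    have hmem : ∃ z : ℤ, (w q.1, z) ∈ T.ch (w r) (w s) := by
      rw [c.chain_w r hr s hs]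
      unfold adjCh
      obtain ⟨j, hj, rfl⟩ := List.getElem_of_mem hq
      have hm : ((T.ch r s)[j], j) ∈ (T.ch r s).zipIdx := by
        rw [List.mem_zipIdx_iff_getElem?]
        simp [hj]
      have := List.mem_map_of_mem (f := fun q : (ℕ × ℤ) × ℕ => (w q.1.1,
        Int.mul (Int.mul (Int.mul (η q.1.1) (η s)) (zpow' (η r) (Nat.succ q.2))) q.1.2)) hm
      exact ⟨_, this⟩
    obtain ⟨z, hz⟩ := hmem
    obtain ⟨h1, k, hk, h2⟩ := h.chain (w r) (c.w_lt r hr) (w s) (c.w_lt s hs) _ hz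
    refine ⟨fun he => h1 (by rw [he]), k, hk, h2⟩

section base

variable {T : FD} {D : ChevalleyDatum}

/-- the height of a root -/
noncomputable def ht0 (D : ChevalleyDatum) (mT : BT (List ℤ)) (r : ℕ) : ℤ := lamJ mT D.rank ∅ r

theorem isLevel_ht0 (_hA : T.Agrees D) (mT : BT (List ℤ))
    (hrc : ∀ r < D.nroots, RootCoordOK T D mT r) : IsLevel T D.nroots (ht0 D mT) := by
  constructor
  · intro r hr
    exact lamJ_neg mT D.rank ∅ _ r (hrc r hr).neg
  · intro r hr s hs q hq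
    obtain ⟨h1, k, hk, h2⟩ := (hrc r hr).chain s hs q hq
    exact ⟨h1, k, hk, lamJ_add mT D.rank ∅ _ _ _ k h2⟩

theorem ht0_pos (hD : D ∈ [chevG2, chevB2, chevD4, chevF4, chevE6, chevE7, chevE8])
    (hA : T.Agrees D) (mT : BT (List ℤ))
    (hrc : ∀ r < D.nroots, RootCoordOK T D mT r) (r : ℕ) (hr : r < D.nroots)
    (hp : D.nroots / 2 ≤ r) : 1 ≤ ht0 D mT r := by
  have hcor := corInj_all (F := ℚ) D hD r hr
  have hex : ∃ i < D.rank, (T.corootL r).getD i 0 ≠ 0 := by
    by_contra hcon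
    push Not at hcon
    have := hcor 1 (fun i hi => by
      rw [← hA.coroot_eq r hr i hi, hcon i hi]
      simp)
    exact one_ne_zero this
  obtain ⟨i0, hi0, hne⟩ := hex
  apply lamJ_pos mT D.rank ∅ r ((hrc r hr).pos hp) i0 hi0 (Set.notMem_empty _)
  intro h0
  exact hne (((hrc r hr).supp i0 hi0).1 h0)

theorem ht0_simple (hD : D ∈ [chevG2, chevB2, chevD4, chevF4, chevE6, chevE7, chevE8])
    (hA : T.Agrees D) (mT : BT (List ℤ))
    (hrc : ∀ r < D.nroots, RootCoordOK T D mT r)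
    (hone : ∀ i < D.rank, mOf mT (D.simple i) i = 1) (i : ℕ) (hi : i < D.rank) :
    ht0 D mT (D.simple i) = 1 := by
  have hs := (simple_lt_all D hD i hi).1
  unfold ht0 lamJ
  rw [Finset.sum_eq_single i]
  · rw [if_neg (Set.notMem_empty _)]
    exact hone i hi
  · intro j hj hji
    rw [Finset.mem_range] at hj
    rw [if_neg (Set.notMem_empty _)]
    rw [(hrc _ hs).supp j hj, hA.coroot_eq _ hs j hj, coroot_simple_all D hD i hi j hj, if_neg hji]
  · intro h
    exact absurd (Finset.mem_range.2 hi) h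

end base

end Cfsg.Agent.Lib.Helper5.Frob
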