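import Cfsg.Agent.Lib.Helper5.Frob.Cent2
import Mathlib

/-!
# The fixed points of the entrywise action and the normaliser of the subgroups between (helper5)
-/

set_option autoImplicit false

namespace Cfsg.Agent.Lib.Helper5.Frob

open Cfsg.Lie Cfsg.Agent.Lib.Helper5.Chev
open scoped Matrix

section norm

variable {K : Type*} [Field K] {D : ChevalleyDatum} (φ : K →+* K)

/-- the root elements with parameters `±1` lie in the fixed group -/
theorem pm_one_mem_fixGroup (hadd : AllAdd K D) (s : ℕ) :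
    hadd.xU s 1 ∈ fixGroup D φ ∧ hadd.xU s (-1) ∈ fixGroup D φ :=
  ⟨xU_mem_fixGroup φ hadd s 1 (map_one φ),
    xU_mem_fixGroup φ hadd s (-1) (by rw [map_neg, map_one])⟩

/-- the entrywise action maps `U_w⁻` to `U_w⁻` of the image -/
theorem sig_mem_uneg (hadd : AllAdd K D) (hφ : Function.Surjective φ) (n u : GL D.Idx K)
    (hu : u ∈ Subgroup.closure (unegSet K D n)) :
    sig φ u ∈ Subgroup.closure (unegSet K D (sig φ n)) := by
  have : Subgroup.closure (unegSet K D n) ≤
      (Subgroup.closure (unegSet K D (sig φ n))).comap (sig φ) := by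
    rw [Subgroup.closure_le]
    rintro x ⟨r, t, hr, hmap, hx⟩
    have e : x = hadd.xU r t := Units.ext hx
    subst e
    rw [SetLike.mem_coe, Subgroup.mem_comap, sig_xU]
    apply Subgroup.subset_closure
    refine ⟨r, φ t, hr, ?_, rfl⟩
    rw [map_root_le_iff hadd] at hmap ⊢
    intro t'
    obtain ⟨s, rfl⟩ := hφ t'
    have := sig_mem_neg φ hadd (hmap s)
    rw [map_mul, map_mul, map_inv, sig_xU] at this
    exact this
  exact this hu

/-- an element of the group fixed by the entrywise action is a product `l₁ h l₂` with `l₁`, `l₂` in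
the fixed group and `h` a fixed element of `H` -/
theorem fixed_decomp (hD : D ∈ [chevG2, chevB2, chevD4, chevF4, chevE6, chevE7, chevE8])
    (hφ : Function.Surjective φ) (g : GL D.Idx K) (hg : g ∈ D.group K) (hfix : sig φ g = g) :
    ∃ l₁ ∈ fixGroup D φ, ∃ h ∈ D.diagonalSubgroup K, ∃ l₂ ∈ fixGroup D φ,
      sig φ h = h ∧ g = l₁ * h * l₂ := by
  have hadd := allAdd_all (F := K) D hD
  have hH := hform_all' (F := K) D hD
  obtain ⟨T, Bs, mLL, mT, gH, baseH, fuel, hA, hB, hr, hbase, hcox, hrc, hpos, hone, -⟩ :=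
    frob_known D hD
  have hHU := (borel_semidirect_all (F := K) D hD).1
  have hHN : D.diagonalSubgroup K ≤ D.monomialSubgroup K := le_sup_left
  have hUB : D.posUnipotent K ≤ D.borelSubgroup K := le_sup_left
  obtain ⟨b, hb, n, hn, u, hu, e⟩ := bruhat_exists_all D hD g hg
  unfold ChevalleyDatum.borelSubgroup at hb
  rw [← SetLike.mem_coe, Subgroup.coe_mul_of_right_le_normalizer_left _ _ hHU, Set.mem_mul] at hb
  obtain ⟨u1, hu1, k, hk, rfl⟩ := hb
  have hkn : k * n ∈ D.monomialSubgroup K := Subgroup.mul_mem _ (hHN hk) hn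
  have hu0 : u ∈ Subgroup.closure (unegSet K D (k * n)) :=
    Subgroup.closure_mono (unegSet_diag_mul hD n k hk) hu
  have eg : g = u1 * (k * n) * u := by rw [e]; group
  have eg' : sig φ u1 * sig φ (k * n) * sig φ u = u1 * (k * n) * u := by
    rw [← map_mul, ← map_mul, ← eg, hfix]
  have hsu1 : sig φ u1 ∈ D.posUnipotent K := sig_mem_pos φ hadd hu1
  have hsn : sig φ (k * n) ∈ D.monomialSubgroup K := sig_mem_monomial φ hadd hkn
  have hsu : sig φ u ∈ Subgroup.closure (unegSet K D (sig φ (k * n))) :=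
    sig_mem_uneg φ hadd hφ _ _ hu0
  have hn_fix : sig φ (k * n) = k * n :=
    bruhat_sharp_unique D hD _ _ _ _ _ _ hsu1 hu1 hsn hkn hsu hu0 eg'
  rw [hn_fix] at hsu eg'
  obtain ⟨hu1_fix, hu_fix⟩ := (bruhat_unique_all D hD _ _ _ _ _ _ (hUB hsu1) (hUB hu1) hkn hkn
    hsu hu0 eg').2 rfl
  have hu1L : u1 ∈ fixGroup D φ := pos_fixed_mem φ hD hu1 hu1_fix
  have huL : u ∈ fixGroup D φ := pos_fixed_mem φ hD (uneg_le_pos D _ hu0) hu_fix
  obtain ⟨L, hL, h0, hh0, en⟩ := monomial_le_NWH hA hadd Bs hB hH gH baseH fuel hr hbase hkn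
  have hnWL : nWordU hA hadd L ∈ fixGroup D φ :=
    nWordU_mem_of hA hadd _ (pm_one_mem_fixGroup φ hadd) L
  have hh0_fix : sig φ h0 = h0 := by
    have h1 := hn_fix
    rw [en, map_mul, sig_fixGroup φ hadd hnWL] at h1
    exact mul_left_cancel h1
  refine ⟨u1 * nWordU hA hadd L, Subgroup.mul_mem _ hu1L hnWL, h0, hh0, u, huL, hh0_fix, ?_⟩
  rw [eg, en]
  group

/-- a fixed element of `H` normalises the fixed group -/
theorem diag_conj_fixGroup (hD : D ∈ [chevG2, chevB2, chevD4, chevF4, chevE6, chevE7, chevE8])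
    (h : GL D.Idx K) (hh : h ∈ D.diagonalSubgroup K) (hfix : sig φ h = h) (l : GL D.Idx K)
    (hl : l ∈ fixGroup D φ) : h * l * h⁻¹ ∈ fixGroup D φ := by
  have hadd := allAdd_all (F := K) D hD
  obtain ⟨χ, hχ1, hχ2⟩ := diag_conj_char D hD h hh
  have : fixGroup D φ ≤ (fixGroup D φ).comap (MulAut.conj h).toMonoidHom := by
    unfold fixGroup
    rw [Subgroup.closure_le]
    rintro x ⟨s, t, ht, hx⟩
    have e : x = hadd.xU s t := Units.ext hx
    subst e
    rw [SetLike.mem_coe, Subgroup.mem_comap]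
    show h * hadd.xU s t * h⁻¹ ∈ _
    by_cases hs : s < D.nroots
    · rw [hχ2 s hs t]
      apply Subgroup.subset_closure
      refine ⟨s, (χ s : K) * t, ?_, rfl⟩
      have h1 := (sig_fixed_iff φ h).1 hfix (Sum.inr ⟨s, hs⟩) (Sum.inr ⟨s, hs⟩)
      rw [hχ1] at h1
      unfold ChevalleyDatum.charDiag at h1
      rw [Matrix.diagonal_apply_eq] at h1
      rw [map_mul, ht]
      congr 1
    · have : hadd.xU s t = 1 := Units.ext (x_out s hs t)
      rw [this]
      simp
  exact this hl

theorem diag_commute (hD : D ∈ [chevG2, chevB2, chevD4, chevF4, chevE6, chevE7, chevE8])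
    (h h' : GL D.Idx K) (hh : h ∈ D.diagonalSubgroup K) (hh' : h' ∈ D.diagonalSubgroup K) :
    h * h' = h' * h := by
  obtain ⟨χ, hχ1, -⟩ := diag_conj_char D hD h hh
  obtain ⟨χ', hχ1', -⟩ := diag_conj_char D hD h' hh'
  apply Units.ext
  rw [Units.val_mul, Units.val_mul, hχ1, hχ1']
  unfold ChevalleyDatum.charDiag
  rw [Matrix.diagonal_mul_diagonal, Matrix.diagonal_mul_diagonal]
  congr 1
  funext a
  exact mul_comm _ _

/-- the normaliser in the group of a subgroup between the fixed group and the fixed points is the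
group of fixed points -/
theorem normalizer_iff (hD : D ∈ [chevG2, chevB2, chevD4, chevF4, chevE6, chevE7, chevE8])
    (hφ : Function.Surjective φ) (M : Subgroup (GL D.Idx K)) (hMG : M ≤ D.group K)
    (hLM : fixGroup D φ ≤ M) (hMfix : ∀ x ∈ M, sig φ x = x) (g : GL D.Idx K)
    (hg : g ∈ D.group K) :
    g ∈ Subgroup.normalizer (M : Set (GL D.Idx K)) ↔ sig φ g = g := by
  have hadd := allAdd_all (F := K) D hD
  constructor
  · intro hgN
    have hc : ∀ x ∈ M, (g⁻¹ * sig φ g) * x = x * (g⁻¹ * sig φ g) := by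
      intro x hx
      have h1 : g * x * g⁻¹ ∈ M := (Subgroup.mem_normalizer_iff.1 hgN x).1 hx
      have h2 := hMfix _ h1
      rw [map_mul, map_mul, map_inv, hMfix x hx] at h2
      calc g⁻¹ * sig φ g * x = g⁻¹ * (sig φ g * x * (sig φ g)⁻¹) * sig φ g := by group
        _ = g⁻¹ * (g * x * g⁻¹) * sig φ g := by rw [h2]
        _ = _ := by group
    have hmem : g⁻¹ * sig φ g ∈ D.group K :=
      Subgroup.mul_mem _ (Subgroup.inv_mem _ hg) (sig_mem_group φ hadd hg)
    have := cent_eq_one hD M (fun s => ⟨hLM (pm_one_mem_fixGroup φ hadd s).1,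
      hLM (pm_one_mem_fixGroup φ hadd s).2⟩) _ hmem hc
    exact (inv_mul_eq_one.1 this).symm
  · intro hfix
    obtain ⟨l₁, hl₁, h, hh, l₂, hl₂, hhfix, rfl⟩ := fixed_decomp φ hD hφ g hg hfix
    -- a fixed element of `H` maps `M` into `M`
    have key : ∀ h ∈ D.diagonalSubgroup K, sig φ h = h → ∀ x ∈ M, h * x * h⁻¹ ∈ M := by
      intro h hh hhfix x hx
      obtain ⟨a, ha, h', hh', c, hc, -, rfl⟩ :=
        fixed_decomp φ hD hφ x (hMG hx) (hMfix x hx)
      have e : h * (a * h' * c) * h⁻¹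
          = (h * a * h⁻¹) * a⁻¹ * (a * h' * c) * c⁻¹ * (h * c * h⁻¹) := by
        have hcomm := diag_commute hD h h' hh hh'
        calc h * (a * h' * c) * h⁻¹ = (h * a * h⁻¹) * (h * h') * h⁻¹ * (h * c * h⁻¹) := by group
          _ = (h * a * h⁻¹) * (h' * h) * h⁻¹ * (h * c * h⁻¹) := by rw [hcomm]
          _ = _ := by group
      rw [e]
      have h1 := hLM (diag_conj_fixGroup φ hD h hh hhfix a ha)
      have h2 := hLM (diag_conj_fixGroup φ hD h hh hhfix c hc)
      exact Subgroup.mul_mem _ (Subgroup.mul_mem _ (Subgroup.mul_mem _ (Subgroup.mul_mem _ h1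
        (Subgroup.inv_mem _ (hLM ha))) hx) (Subgroup.inv_mem _ (hLM hc))) h2
    have hhN : h ∈ Subgroup.normalizer (M : Set (GL D.Idx K)) := by
      rw [Subgroup.mem_normalizer_iff]
      intro x
      constructor
      · exact key h hh hhfix x
      · intro hx
        have := key h⁻¹ (Subgroup.inv_mem _ hh) (by rw [map_inv, hhfix]) _ hx
        rw [inv_inv] at this
        have e : h⁻¹ * (h * x * h⁻¹) * h = x := by group
        rwa [e] at this
    have hle : M ≤ Subgroup.normalizer (M : Set (GL D.Idx K)) := Subgroup.le_normalizer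
    exact Subgroup.mul_mem _ (Subgroup.mul_mem _ (hle (hLM hl₁)) hhN) (hle (hLM hl₂))

end norm

end Cfsg.Agent.Lib.Helper5.Frob
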