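import Cfsg.Agent.Lib.Helper5.Chev.BruhatH
import Cfsg.Agent.Lib.Helper5.Chev.UProd
import Cfsg.Agent.Lib.Helper5.Chev.Core
import Mathlib

/-!
# The entrywise action of a field endomorphism on a Chevalley group (helper5)

`sig φ` applies the ring homomorphism `φ` to every entry.  It sends `x_r(t)` to `x_r(φ t)`, hence
preserves the group, `U`, `V`, `H`, `N`, `B`.  The elements of `U` fixed by it are products of root
elements with fixed parameters.
-/

set_option autoImplicit false

namespace Cfsg.Agent.Lib.Helper5.Frob

open Cfsg.Lie Cfsg.Agent.Lib.Helper5.Chev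
open scoped Matrix

section map

variable {K L : Type*} [Field K] [Field L] {D : ChevalleyDatum}

/-- the root elements have entries polynomial in the parameter with integer coefficients -/
theorem xMat_map_hom (φ : K →+* L) (r : Fin D.nroots) (t : K) :
    (D.xMat K r t).map φ = D.xMat L r (φ t) := by
  ext row col
  simp only [Matrix.map_apply, ChevalleyDatum.xMat, Matrix.of_apply]
  rcases col with i | s
  · rcases row with i' | u
    · simp only
      split_ifs <;> simp
    · simp only
      split_ifs <;> simp
  · simp only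
    split_ifs
    · rcases row with i' | u
      · simp
      · simp only
        split_ifs <;> simp
    · rcases row with i' | u
      · simp
      · simp only
        split_ifs <;> simp
    · rcases row with i' | u
      · simp
      · simp only [map_add, map_list_sum, List.map_map]
        congr 1
        · split_ifs <;> simp
        · congr 1
          apply List.map_congr_left
          intro km _
          simp

theorem x_map_hom (φ : K →+* L) (r : ℕ) (t : K) : (D.x K r t).map φ = D.x L r (φ t) := by
  unfold ChevalleyDatum.x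
  split_ifs with h
  · exact xMat_map_hom φ ⟨r, h⟩ t
  · exact Matrix.map_one φ (map_zero φ) (map_one φ)

theorem wordMat_map_hom (φ : K →+* L) (w : List (ℕ × K)) :
    (D.wordMat K w).map φ = D.wordMat L (w.map fun p => (p.1, φ p.2)) := by
  unfold ChevalleyDatum.wordMat
  induction w with
  | nil => exact Matrix.map_one φ (map_zero φ) (map_one φ)
  | cons p w ih =>
    rw [List.map_cons, List.prod_cons, Matrix.map_mul, ih, x_map_hom, List.map_cons, List.map_cons,
      List.prod_cons]

end map

section sig

variable {K : Type*} [Field K] {D : ChevalleyDatum} (φ : K →+* K)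

/-- the entrywise action on the general linear group -/
noncomputable def sig : GL D.Idx K →* GL D.Idx K := Matrix.GeneralLinearGroup.map φ

theorem sig_val (g : GL D.Idx K) :
    ((sig φ g : GL D.Idx K) : Matrix D.Idx D.Idx K) = (g : Matrix D.Idx D.Idx K).map φ := by
  ext i j
  exact Matrix.GeneralLinearGroup.map_apply φ i j g

theorem sig_eq_of_val (g : GL D.Idx K) (w : List (ℕ × K)) (hadd : AllAdd K D)
    (hg : (g : Matrix D.Idx D.Idx K) = D.wordMat K w) :
    sig φ g = hadd.wordU (w.map fun p => (p.1, φ p.2)) := by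
  apply Units.ext
  rw [sig_val, hg, wordMat_map_hom, hadd.wordU_val]

theorem sig_xU (hadd : AllAdd K D) (r : ℕ) (t : K) : sig φ (hadd.xU r t) = hadd.xU r (φ t) := by
  apply Units.ext
  rw [sig_val, hadd.xU_val, x_map_hom, hadd.xU_val]

theorem sig_fixed_iff (g : GL D.Idx K) :
    sig φ g = g ↔ ∀ i j, φ ((g : Matrix D.Idx D.Idx K) i j) = (g : Matrix D.Idx D.Idx K) i j := by
  constructor
  · intro h i j
    have := congrArg (fun x : GL D.Idx K => (x : Matrix D.Idx D.Idx K) i j) h
    simp only [sig_val, Matrix.map_apply] at this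
    exact this
  · intro h
    apply Units.ext
    rw [sig_val]
    ext i j
    exact h i j

theorem sig_mem_group (hadd : AllAdd K D) {g : GL D.Idx K} (hg : g ∈ D.group K) :
    sig φ g ∈ D.group K := by
  have : D.group K ≤ (D.group K).comap (sig φ) := by
    unfold ChevalleyDatum.group
    rw [Subgroup.closure_le]
    rintro g ⟨r, t, hg⟩
    have e : g = hadd.xU r.val t := Units.ext (hg.trans (x_eq_xMat r.val r.2 t).symm)
    rw [SetLike.mem_coe, Subgroup.mem_comap, e, sig_xU]
    exact hadd.xU_mem_group _ _
  exact this hg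

theorem sig_mem_pos (hadd : AllAdd K D) {g : GL D.Idx K} (hg : g ∈ D.posUnipotent K) :
    sig φ g ∈ D.posUnipotent K := by
  have : D.posUnipotent K ≤ (D.posUnipotent K).comap (sig φ) := by
    unfold ChevalleyDatum.posUnipotent
    rw [Subgroup.closure_le]
    rintro g ⟨r, t, hr, hg⟩
    have e : g = hadd.xU r t := Units.ext hg
    rw [SetLike.mem_coe, Subgroup.mem_comap, e, sig_xU]
    exact Subgroup.subset_closure ⟨r, φ t, hr, rfl⟩
  exact this hg

theorem sig_mem_neg (hadd : AllAdd K D) {g : GL D.Idx K} (hg : g ∈ D.negUnipotent K) :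
    sig φ g ∈ D.negUnipotent K := by
  have : D.negUnipotent K ≤ (D.negUnipotent K).comap (sig φ) := by
    unfold ChevalleyDatum.negUnipotent
    rw [Subgroup.closure_le]
    rintro g ⟨r, t, hr, hg⟩
    have e : g = hadd.xU r t := Units.ext hg
    rw [SetLike.mem_coe, Subgroup.mem_comap, e, sig_xU]
    exact Subgroup.subset_closure ⟨r, φ t, hr, rfl⟩
  exact this hg

theorem nWord_map (r : ℕ) (t : K) :
    ((D.nWord r t).map fun p => (p.1, φ p.2)) = D.nWord r (φ t) := by
  simp [ChevalleyDatum.nWord, map_neg, map_inv₀]

theorem hWord_map (r : ℕ) (t : K) :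
    ((D.hWord r t).map fun p => (p.1, φ p.2)) = D.hWord r (φ t) := by
  unfold ChevalleyDatum.hWord
  rw [List.map_append, nWord_map, nWord_map, map_neg, map_one]

theorem sig_mem_diagonal (_hadd : AllAdd K D) {g : GL D.Idx K} (hg : g ∈ D.diagonalSubgroup K) :
    sig φ g ∈ D.diagonalSubgroup K := by
  have : D.diagonalSubgroup K ≤ (D.diagonalSubgroup K).comap (sig φ) := by
    unfold ChevalleyDatum.diagonalSubgroup
    rw [Subgroup.closure_le]
    rintro g ⟨r, t, hr, ht, hg⟩
    rw [SetLike.mem_coe, Subgroup.mem_comap]
    apply Subgroup.subset_closure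
    refine ⟨r, φ t, hr, (map_ne_zero φ).2 ht, ?_⟩
    rw [sig_val, hg, ChevalleyDatum.hMat, wordMat_map_hom, hWord_map]
    rfl
  exact this hg

theorem sig_mem_monomial (hadd : AllAdd K D) {g : GL D.Idx K} (hg : g ∈ D.monomialSubgroup K) :
    sig φ g ∈ D.monomialSubgroup K := by
  have : D.monomialSubgroup K ≤ (D.monomialSubgroup K).comap (sig φ) := by
    unfold ChevalleyDatum.monomialSubgroup
    apply sup_le
    · intro g hg
      rw [Subgroup.mem_comap]
      exact Subgroup.mem_sup_left (sig_mem_diagonal φ hadd hg)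
    · rw [Subgroup.closure_le]
      rintro g ⟨r, hr, hg⟩
      rw [SetLike.mem_coe, Subgroup.mem_comap]
      apply Subgroup.mem_sup_right
      apply Subgroup.subset_closure
      refine ⟨r, hr, ?_⟩
      rw [sig_val, hg, ChevalleyDatum.nMat, wordMat_map_hom, nWord_map, map_one]
  exact this hg

theorem sig_mem_borel (hadd : AllAdd K D) {g : GL D.Idx K} (hg : g ∈ D.borelSubgroup K) :
    sig φ g ∈ D.borelSubgroup K := by
  have : D.borelSubgroup K ≤ (D.borelSubgroup K).comap (sig φ) := by
    unfold ChevalleyDatum.borelSubgroup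
    apply sup_le
    · intro g hg
      rw [Subgroup.mem_comap]
      exact Subgroup.mem_sup_left (sig_mem_pos φ hadd hg)
    · intro g hg
      rw [Subgroup.mem_comap]
      exact Subgroup.mem_sup_right (sig_mem_diagonal φ hadd hg)
  exact this hg

/-- the subgroup generated by the root elements with fixed parameters -/
def fixGroup (D : ChevalleyDatum) (φ : K →+* K) : Subgroup (GL D.Idx K) :=
  Subgroup.closure {g | ∃ (s : ℕ) (t : K), φ t = t ∧ (g : Matrix D.Idx D.Idx K) = D.x K s t}

theorem xU_mem_fixGroup (hadd : AllAdd K D) (s : ℕ) (t : K) (ht : φ t = t) :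
    hadd.xU s t ∈ fixGroup D φ :=
  Subgroup.subset_closure ⟨s, t, ht, rfl⟩

theorem fixGroup_le_group (hadd : AllAdd K D) : fixGroup D φ ≤ D.group K := by
  unfold fixGroup
  rw [Subgroup.closure_le]
  rintro g ⟨s, t, -, hg⟩
  exact hadd.mem_group_of_x g s t hg

theorem sig_fixGroup (hadd : AllAdd K D) {g : GL D.Idx K} (hg : g ∈ fixGroup D φ) :
    sig φ g = g := by
  have : fixGroup D φ ≤ (MonoidHom.eqLocus (sig φ) (MonoidHom.id _)) := by
    unfold fixGroup
    rw [Subgroup.closure_le]
    rintro g ⟨s, t, ht, hg⟩
    have e : g = hadd.xU s t := Units.ext hg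
    show sig φ g = g
    rw [e, sig_xU, ht]
  exact this hg

/-- the elements of `U` fixed by the entrywise action are products of root elements with fixed
parameters -/
theorem pos_fixed_mem (hD : D ∈ [chevG2, chevB2, chevD4, chevF4, chevE6, chevE7, chevE8])
    {g : GL D.Idx K} (hg : g ∈ D.posUnipotent K) (hfix : sig φ g = g) : g ∈ fixGroup D φ := by
  have hadd := allAdd_all (F := K) D hD
  obtain ⟨t, ⟨ht0, htg⟩, huniq⟩ := (unique_product_all (F := K) D hD).1 g hg
  have h2 : (fun r => φ (t r)) = t := by
    apply huniq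
    refine ⟨fun r hr => by rw [ht0 r hr, map_zero], ?_⟩
    have := congrArg Units.val hfix
    rw [sig_val, htg, wordMat_map_hom, List.map_map] at this
    rw [htg, ← this]
    rfl
  have e : g = hadd.wordU (D.posRoots.map fun r => (r, t r)) :=
    Units.ext (htg.trans (hadd.wordU_val _).symm)
  rw [e]
  unfold AllAdd.wordU
  apply Subgroup.list_prod_mem
  intro x hx
  rw [List.map_map, List.mem_map] at hx
  obtain ⟨r, -, rfl⟩ := hx
  exact xU_mem_fixGroup φ hadd r (t r) (congrFun h2 r)

end sig

end Cfsg.Agent.Lib.Helper5.Frob
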