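import Cfsg.Agent.Lib.Helper5.Frob.Level
import Mathlib

/-!
# The twisted gradings and the coordinate of an element of `U` on a fundamental root (helper5)
-/

set_option autoImplicit false

namespace Cfsg.Agent.Lib.Helper5.Frob

open Cfsg.Lie Cfsg.Agent.Lib.Helper5.Chev
open scoped Matrix

section twist

variable {F : Type*} [Field F] {T : FD} {D : ChevalleyDatum}

/-- the height twisted by the inverse of a word -/
noncomputable def lamW (D : ChevalleyDatum) (mT : BT (List ℤ)) (Bs L : List ℕ) (s : ℕ) : ℤ :=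
  ht0 D mT (wW' Bs L s)

theorem isLevel_lamW (hA : T.Agrees D) (mT : BT (List ℤ))
    (hrc : ∀ r < D.nroots, RootCoordOK T D mT r) (Bs : List ℕ)
    (hB : ∀ i < D.rank, ReflChecks T D i (Bs.getD i 0)) (L : List ℕ) (hL : ∀ i ∈ L, i < D.rank) :
    IsLevel T D.nroots (lamW D mT Bs L) := by
  induction L with
  | nil => exact isLevel_ht0 hA mT hrc
  | cons i L ih =>
    have hi := hL i List.mem_cons_self
    exact IsLevel.comp ((hB i hi).cert hA) (ih (fun j hj => hL j (List.mem_cons_of_mem _ hj)))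

/-- the grading attached to a level: `0` on the Cartan part -/
def bOf (D : ChevalleyDatum) (lam : ℕ → ℤ) : D.Idx → ℤ :=
  Sum.elim (fun _ => 0) (fun v => lam v.val)

/-- root elements of roots of positive level are unitriangular -/
theorem xU_mem_UG_of_level (hA : T.Agrees D) (hadd : AllAdd F D) {lam : ℕ → ℤ}
    (hl : IsLevel T D.nroots lam) (s : ℕ) (hs : s < D.nroots) (h1 : 1 ≤ lam s) (t : F) :
    hadd.xU s t ∈ UG (bOf D lam) 1 := by
  have key : ∀ t' : F, Filt (bOf D lam) 1 (D.x F s t' - 1) := by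
    intro t' u s' hne
    obtain ⟨k, hk, he⟩ := graded_x hA (bOf D lam) lam (fun _ => rfl) (fun _ => rfl) s hs
      (by rw [FD.neg_eq' hA s hs]; exact hl.neg s hs) (hl.chain s hs) t' u s' hne
    rw [he]
    have : (1 : ℤ) ≤ k := by exact_mod_cast hk
    nlinarith
  have hinv : (hadd.xU s t)⁻¹ = hadd.xU s (-t) := by
    rw [inv_eq_iff_mul_eq_one]
    apply Units.ext
    rw [Units.val_mul]
    exact hadd.x_mul_neg s t
  constructor
  · rw [Nat.cast_one]
    exact key t
  · rw [Nat.cast_one, hinv]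
    exact key (-t)

theorem wW'_wW (hA : T.Agrees D) (Bs : List ℕ)
    (hB : ∀ i < D.rank, ReflChecks T D i (Bs.getD i 0)) (L : List ℕ) (hL : ∀ i ∈ L, i < D.rank)
    (s : ℕ) (hs : s < D.nroots) : wW' Bs L (wW Bs L s) = s := by
  induction L with
  | nil => rfl
  | cons i L ih =>
    have hi := hL i List.mem_cons_self
    have hL' : ∀ j ∈ L, j < D.rank := fun j hj => hL j (List.mem_cons_of_mem _ hj)
    show wW' Bs L (wOf (Bs.getD i 0) (wOf (Bs.getD i 0) (wW Bs L s))) = s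
    rw [((hB i hi).cert hA).w_w _ (wW_lt hA Bs hB L hL' s hs)]
    exact ih hL'

/-- the conjugate of `U` by `n = n_{i_1} ⋯ n_{i_k} h` is unitriangular for the grading twisted by
the word -/
theorem conj_pos_le_UG (hD : D ∈ [chevG2, chevB2, chevD4, chevF4, chevE6, chevE7, chevE8])
    (hA : T.Agrees D) (hadd : AllAdd F D) (mT : BT (List ℤ))
    (hrc : ∀ r < D.nroots, RootCoordOK T D mT r)
    (hpos : ∀ r < D.nroots, (D.IsPosRoot r ↔ D.nroots / 2 ≤ r)) (Bs : List ℕ)
    (hB : ∀ i < D.rank, ReflChecks T D i (Bs.getD i 0)) (L : List ℕ) (hL : ∀ i ∈ L, i < D.rank)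
    (h : GL D.Idx F) (hh : h ∈ D.diagonalSubgroup F) :
    (D.posUnipotent F).map (MulAut.conj (nWordU hA hadd L * h)).toMonoidHom ≤
      UG (bOf D (lamW D mT Bs L)) 1 := by
  rw [Subgroup.map_le_iff_le_comap]
  unfold ChevalleyDatum.posUnipotent
  rw [Subgroup.closure_le]
  rintro g ⟨r, t, hr, hg⟩
  have e : g = hadd.xU r t := Units.ext hg
  subst e
  rw [SetLike.mem_coe, Subgroup.mem_comap]
  show nWordU hA hadd L * h * hadd.xU r t * (nWordU hA hadd L * h)⁻¹ ∈ _
  obtain ⟨u', e1⟩ := conj_diag_x hD hadd h hh r hr.1 t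
  obtain ⟨hlt, t', e2⟩ := conj_word hA hadd Bs hB L hL r hr.1 u'
  have e3 : nWordU hA hadd L * h * hadd.xU r t * (nWordU hA hadd L * h)⁻¹
      = hadd.xU (wW Bs L r) t' := by
    rw [← e2, ← e1]
    group
  rw [e3]
  apply xU_mem_UG_of_level hA hadd (isLevel_lamW hA mT hrc Bs hB L hL) _ hlt
  unfold lamW
  rw [wW'_wW hA Bs hB L hL r hr.1]
  exact ht0_pos hD hA mT hrc r hr.1 ((hpos r hr.1).1 hr)

/-- if an element of the conjugate of `U` has a non-zero entry in the row of `h_i` and the column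
of `e_{-p_i}`, then the inverse word maps `p_i` to a positive root -/
theorem pos_of_entry_ne_zero (hD : D ∈ [chevG2, chevB2, chevD4, chevF4, chevE6, chevE7, chevE8])
    (hA : T.Agrees D) (hadd : AllAdd F D) (mT : BT (List ℤ))
    (hrc : ∀ r < D.nroots, RootCoordOK T D mT r)
    (hpos : ∀ r < D.nroots, (D.IsPosRoot r ↔ D.nroots / 2 ≤ r)) (Bs : List ℕ)
    (hB : ∀ i < D.rank, ReflChecks T D i (Bs.getD i 0)) (L : List ℕ) (hL : ∀ i ∈ L, i < D.rank)
    (h : GL D.Idx F) (hh : h ∈ D.diagonalSubgroup F) (y : GL D.Idx F)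
    (hy : y ∈ (D.posUnipotent F).map (MulAut.conj (nWordU hA hadd L * h)).toMonoidHom)
    (i : ℕ) (hi : i < D.rank) (hn : D.neg (D.simple i) < D.nroots)
    (hne : (y : Matrix D.Idx D.Idx F) (Sum.inl ⟨i, hi⟩) (Sum.inr ⟨D.neg (D.simple i), hn⟩) ≠ 0) :
    D.nroots / 2 ≤ wW' Bs L (D.simple i) := by
  have hs := (simple_lt_all D hD i hi).1
  have hl := isLevel_lamW hA mT hrc Bs hB L hL
  have hyU := conj_pos_le_UG hD hA hadd mT hrc hpos Bs hB L hL h hh hy
  have hfilt := hyU.1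
  have hne' : ((y : Matrix D.Idx D.Idx F) - 1) (Sum.inl ⟨i, hi⟩)
      (Sum.inr ⟨D.neg (D.simple i), hn⟩) ≠ 0 := by
    rw [Matrix.sub_apply, Matrix.one_apply_ne (by simp), sub_zero]
    exact hne
  have h1 := hfilt _ _ hne'
  have h2 : bOf D (lamW D mT Bs L) (Sum.inl ⟨i, hi⟩) = 0 := rfl
  have h3 : bOf D (lamW D mT Bs L) (Sum.inr ⟨D.neg (D.simple i), hn⟩)
      = lamW D mT Bs L (D.neg (D.simple i)) := rfl
  rw [h2, h3, FD.neg_eq' hA _ hs, hl.neg _ hs] at h1
  have h4 : 1 ≤ ht0 D mT (wW' Bs L (D.simple i)) := by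
    have : lamW D mT Bs L (D.simple i) = ht0 D mT (wW' Bs L (D.simple i)) := rfl
    rw [← this]
    push_cast at h1
    omega
  by_contra hcon
  rw [not_le] at hcon
  have hlt := wW'_lt hA Bs hB L hL _ hs
  have h5 := neg_ge_half_all D hD _ hlt hcon
  have h6 := ht0_pos hD hA mT hrc _ (by
    rw [FD.neg_eq' hA _ hlt]; exact hA.neg_lt _ hlt) h5
  rw [FD.neg_eq' hA _ hlt, (isLevel_ht0 hA mT hrc).neg _ hlt] at h6
  omega

end twist

end Cfsg.Agent.Lib.Helper5.Frob
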